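import Cfsg.Agent.J4Rep94.C17.Check0

/-!
# Certificate data
-/

set_option autoImplicit false
set_option maxRecDepth 100000

namespace Cfsg.Agent.J4Rep94.C17

open Cfsg.Agent.CosetEnum

theorem dok0 : allRange sys.checkDef 0 67 = true := by decide +kernel

def fchunks : List (ℕ × ℕ) := [(4, fv0)]

theorem defsOK : sys.DefsOK 0 [67] := ⟨dok0, trivial⟩

theorem factsOK : sys.FactsOK 67 fchunks := ⟨fok0, trivial⟩

theorem rules_ok : sys.rules.all (fun R => R.check sys rels subs) = true := by decide +kernel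

theorem rels_one : ∀ W ∈ rels, evalWord val7 W = 1 :=
  List.forall_mem_append.2 ⟨val7_base, List.forall_mem_nil _⟩

def wv : ℕ := 0x8c000760007400072000700006e0006c0006a00068000660006400062000600005e0005c0005a00058000560005400052000500004e0004c0004a00048000460004400042000400003e0003c0003a00038000360003400032000300002e0002c0002a00028000260002400022000200001e0001c0001a00018000160001400012000100000e0000c0000a0000800006000040000200000

theorem result_mem : evalWord val7 [0,1,0,1,0,1,0,1,0,2,0,2,0,1,0,2,0,2,0,1,0,1,0,2,0,1,0,1,0,2,0,1,0,1,0,1,0,1,0,2,0,2,0,1,0,2,0,2,0,1,0,1,0,2,0,1,0,1,0,2] ∈ wspan val7 subs :=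
  mem_of_cert (val7_letters (S := sys) rfl (by decide +kernel)) rels_one subs rules_ok [67] fchunks defsOK (by decide)
    factsOK (hfs := (by decide +kernel : 67 + (fchunks.map Prod.fst).sum = 71)) (L := 61) (v := wv) (by decide +kernel)

theorem result_word : evalWord val7 [0,1,0,1,0,1,0,1,0,2,0,2,0,1,0,2,0,2,0,1,0,1,0,2,0,1,0,1,0,2,0,1,0,1,0,1,0,1,0,2,0,2,0,1,0,2,0,2,0,1,0,1,0,2,0,1,0,1,0,2] = 1 := by
  have h := result_mem
  rwa [show subs = [] from rfl, wspan_nil, Subgroup.mem_bot] at h

end Cfsg.Agent.J4Rep94.C17
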