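import Cfsg.Agent.J4Rep94.C17.Data

/-!
# Certificate data
-/

set_option autoImplicit false
set_option maxRecDepth 100000

namespace Cfsg.Agent.J4Rep94.C17

open Cfsg.Agent.CosetEnum

def fv0 : ℕ := 0x100003000050000700009000790007b0007d0007f00081000830008a000490004b0004d0004f00051000530005500057000590005b0005d0005f00018000760007400072000700006e0006c0006a00068000660006400062000600000c0003000002000850008800002000460000100023000000008400082000800007e0007c0007a000860000d0000f00011000130001500017000190001b0001d0001f0002100023000130004400042000400003e0003c0003a00038000360003400032000300002e0002c0002a00028000260002400011000120000100078000010000a000010000500000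
theorem fok0 : sys.checkFacts 67 4 fv0 = true := by decide +kernel


end Cfsg.Agent.J4Rep94.C17
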