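import Cfsg.Agent.J4Rep94.P7
import Cfsg.Agent.J4Rep94.Orbit

/-!
# Certificate data
-/

set_option autoImplicit false
set_option maxRecDepth 100000

namespace Cfsg.Agent.J4Rep94.C17

open Cfsg.Agent.CosetEnum

def fxL0 : ℕ := 0xc00000000f0200084000483000430002308001e80003040010c0010800008400082200041000400000200001f84000fc000f800007c0007a20003d0000510001e0001d80000ec000e8200074000720000390003808001c0001b80000dc000d840006c0006a0000350003408001a0001980000cc000c820006400062000031000301000180001780000bc000b840005c0005a00002d0002c0800160001580000ac000a8400054000520000290002810001400013800009c0009820004c0004a0000250002408001200011800008c0008820004400042000021000200800100000f800007c0007840003c0003a00001d0001c08000e0000d800006c00068200034000320000190001810000c0000b800005c0005820002c0002a0000150001408000a00009800004c00048400024000220000110001010000800007800003c0003820001c0001a00000d0000c10000600005800002c00028400014000120000090000808000400003800001c0001820000c0000a0000050000408000200001800000c000082000040000200000100000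
def fx : PTree := (.leaf fxL0)
def rules0 : DTree Rule := (.node 1 (.leaf ⟨1, [1], [2], false, 3, 0⟩) (.node 1 (.leaf ⟨3, [0,1,0,1,0,2,0,1,0,1,0,2,0,1,0,1,0], [1,0,1,0,2,0,1,0,1,0,2,0,1,0,1,0,2,0,1], false, 8, 0⟩) (.leaf ⟨3, [0,1,0,1,0,2,0,1,0,1,0,2], [1,0,1,0,2,0,1,0,1,0,2,0,1,0,1,0,2,0,1,0,2,0,2,0], false, 8, 0⟩)))
def rules : DTree Rule := rules0
def sys : Sys := ⟨3, 0x18440, fx, rules⟩
def rels : List (List ℕ) := baseRels ++ []
def subs : List (List ℕ) := []

end Cfsg.Agent.J4Rep94.C17
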